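import Cfsg.Agent.H602.DPO.Glue
import Cfsg.Agent.H704.DPi.OB
import Cfsg.Agent.H640.DPU.Congr
import Cfsg.Agent.H572.DPO.Frame
import Cfsg.Agent.H22.DPi.DimGe

/-!
# S4247, row `POmega` in characteristic `p ∉ π`, modulo `excl` (helper602)
-/

set_option autoImplicit false
set_option linter.unusedSectionVars false

namespace Cfsg.Agent.H602.DPO

open Module Subgroup Cfsg Cfsg.Agent.H167.OP Cfsg.Agent.H170.HL Cfsg.Agent.H988.CPi Cfsg.Agent.H560.HallKey
  Cfsg.Agent.H553.OddHall Cfsg.Agent.H571.RV Cfsg.Agent.H572.RV Cfsg.Agent.H602.DP Cfsg.Agent.H969.DPi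
  Cfsg.Agent.H817.DPi Cfsg.Agent.LieClassical.OrthCore Cfsg.Agent.LieClassical.OrthTrans
  Cfsg.Agent.LieClassical.OrthForms Cfsg.Agent.LieClassical.OrthFinite Cfsg.Agent.TitsThree.KSideO Cfsg.Agent.H22.DPi

universe u

/-- the alternatives for the induction hypothesis -/
def EX (π : Set ℕ) (p : ℕ) : Prop :=
  2 ∉ π → ∀ (X : Type) [Group X] [Finite X] [IsSimpleGroup X], ¬ IsMulCommutative X →
      IsLieTypeChar p X → Cls π X → (∀ P : Subgroup X, IsPiHall π P → Group.IsNilpotent P) ∨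
      Nonempty (X ≃* Matrix.ProjectiveSpecialLinearGroup (Fin 3) (ZMod 2)) ∨
      Nonempty (X ≃* Matrix.ProjectiveSpecialLinearGroup (Fin 5) (ZMod 2))

theorem row_form {π : Set ℕ} {S : Type u} [Group S] [Finite S] [IsSimpleGroup S] {p : ℕ} (hp : p.Prime) (hpπ : p ∉ π)
    {F : Type} [Field F] [Fintype F] [CharP F p] {ι : Type} [Fintype ι] [DecidableEq ι] {Q : QuadraticForm F (ι → F)}
    (hN : Nondeg Q) (hQ : OmRow.GoodQ Q) (hc : 7 ≤ Fintype.card ι) {Q' : (ι → F) → F} (hQQ : ⇑Q = Q')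
    (e : S ≃* Cfsg.POmega F Q')
    (hOB : center (Cfsg.POmega F Q') = ⊥ → Cfsg.Agent.H704.DPi.OB (Cfsg.POmega F Q') (Fintype.card F) (Fintype.card ι))
    (hexc : EX π p) : Row π S := by
  subst hQQ
  have hG : Good Q := good_of_finite hN (by rw [Module.finrank_fintype_fun_eq_card]; omega)
  have hfin : Finite (Cfsg.POmega F (⇑Q)) := Finite.of_equiv S e.toEquiv
  have hsim : IsSimpleGroup (Cfsg.POmega F (⇑Q)) := e.symm.isSimpleGroup
  apply Cfsg.Agent.H640.DPU.row_congr e
  intro P K B hC hIH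
  have hna : ¬ IsMulCommutative (Cfsg.POmega F (⇑Q)) := by
    intro hc
    apply hC.nnil
    have h1 : ∀ a b : P, a * b = b * a := fun a b => Subtype.ext (hc.is_comm.comm (a : Cfsg.POmega F (⇑Q)) b)
    exact @CommGroup.isNilpotent P { (inferInstance : Group P) with mul_comm := h1 }
  have hZ : center (Cfsg.POmega F (⇑Q)) = ⊥ := by
    rcases (inferInstance : (center (Cfsg.POmega F (⇑Q))).Normal).eq_bot_or_eq_top with h | h
    · exact h
    · exfalso
      apply hna
      refine ⟨⟨fun a b => ?_⟩⟩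
      have h1 : b ∈ center (Cfsg.POmega F (⇑Q)) := by rw [h]; exact mem_top b
      exact Subgroup.mem_center_iff.mp h1 a
  have hob := hOB hZ
  rw [← Nat.card_eq_fintype_card] at hob
  exact row_of hp hG hQ (MulEquiv.refl _) hob
    (fun h2 H hH hn => Cfsg.Agent.H572.DPO.exists_frame (isoG_om hQ) h2 (cast_ne hp hpπ) hH hn)
    (fun H r t h h3 => Cfsg.Agent.H22.DPi.dim_ge h h3) hexc P K B hC hIH

/-- **Row `POmega`** modulo `excl` -/
theorem row_om_of {π : Set ℕ} {S : Type u} [Group S] [Finite S] [IsSimpleGroup S] {p : ℕ} (hp : p.Prime) (hpπ : p ∉ π)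
    (hexc : EX π p) (h : IsPOmegaOddChar p S ∨ IsPOmegaPlusChar p S ∨ IsPOmegaMinusChar p S) : Row π S := by
  rcases h with h | h | h
  · obtain ⟨F, _, _, hchar, m, hm, hodd, ⟨e⟩⟩ := h
    obtain ⟨f, hpp, hf⟩ := FiniteField.card F p
    have hpo : Odd p := by
      rw [hf] at hodd
      rcases hp.eq_two_or_odd' with h2 | h2
      · subst h2
        exact absurd (Nat.even_pow.mpr ⟨even_two, f.ne_zero⟩) (Nat.not_even_iff_odd.mpr hodd)
      · exact h2
    have h2' : (2 : F) ≠ 0 := by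
      intro h
      have h1 : ((2 : ℕ) : F) = 0 := by exact_mod_cast h
      rw [CharP.cast_eq_zero_iff F p, Nat.prime_dvd_prime_iff_eq hp Nat.prime_two] at h1
      subst h1
      exact absurd hpo (by decide)
    refine row_form hp hpπ (nondeg_oddForm m F h2') (OmRow.goodQ_odd (by omega) h2') ?_ (coe_oddForm m F) e ?_ hexc
    · simp; omega
    · intro hZ
      have h1 := Cfsg.Agent.H704.DPi.ob_odd hp f.pos hf hpo hm hZ
      rw [hf]
      convert h1 using 1
      simp
      omega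
  · obtain ⟨F, _, _, hchar, m, hm, ⟨e⟩⟩ := h
    obtain ⟨f, hpp, hf⟩ := FiniteField.card F p
    refine row_form hp hpπ (nondeg_plusForm m F) (OmRow.goodQ_plus (by omega)) ?_ (coe_plusForm m F) e ?_ hexc
    · simp; omega
    · intro hZ
      have h1 := Cfsg.Agent.H704.DPi.ob_plus hp f.pos hf hm hZ
      rw [hf]
      convert h1 using 1
      simp
      omega
  · obtain ⟨F, _, _, hchar, m, a, b, hm, hab, ⟨e⟩⟩ := h
    obtain ⟨f, hpp, hf⟩ := FiniteField.card F p
    refine row_form hp hpπ (nondeg_minusForm (m - 1) F a b hab) (OmRow.goodQ_minus (by omega) a b hab) ?_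
      (coe_minusForm (m - 1) F a b) e ?_ hexc
    · simp; omega
    · intro hZ
      have h1 := Cfsg.Agent.H704.DPi.ob_minus hp f.pos hf hm a b hab hZ
      rw [hf]
      convert h1 using 1
      simp
      omega

end Cfsg.Agent.H602.DPO
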