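import Cfsg.Agent.H602.DPO.RowO
import Cfsg.Agent.H161.DPi.Excl

/-!
# S4247, row `POmega` in characteristic `p ∉ π`: final form (helper602)
-/

set_option autoImplicit false

namespace Cfsg.Agent.H602.DPO

open Subgroup Cfsg Cfsg.Agent.H988.CPi Cfsg.Agent.H571.RV Cfsg.Agent.H817.DPi

universe u

/-- **Row `POmega`** -/
theorem row_om {π : Set ℕ} {S : Type u} [Group S] [Finite S] [IsSimpleGroup S] {p : ℕ} (hp : p.Prime) (hpπ : p ∉ π)
    (h : IsPOmegaOddChar p S ∨ IsPOmegaPlusChar p S ∨ IsPOmegaMinusChar p S) : Row π S :=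
  row_om_of hp hpπ (fun h2 _ _ _ _ hX hl hcl => Cfsg.Agent.H161.DPi.Excl.excl hX h2 hp hpπ hl hcl) h

end Cfsg.Agent.H602.DPO
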